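import Mathlib.GroupTheory.SpecificGroups.Alternating
import Mathlib.GroupTheory.Perm.Cycle.Type
import Mathlib.Logic.Equiv.Fintype
import Mathlib.Tactic.Ring
import Mathlib.Tactic.Linarith

/-!
Fixed point counts of the products `a * (h * b * h⁻¹)` for even `h` are not constant.
-/

set_option autoImplicit false

namespace CfsgLib.FixCount

open Equiv Finset

variable {n : ℕ}

/-- The number of fixed points of `a * h b h⁻¹`. -/
def fx (a b h : Perm (Fin n)) : ℕ := #{x | a (h (b (h⁻¹ x))) = x}

/-- The number of fixed points. -/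
def nfix (a : Perm (Fin n)) : ℕ := #{x | a x = x}

/-- The products have `c` fixed points for every even `h`. -/
def Const (a b : Perm (Fin n)) (c : ℕ) : Prop :=
  ∀ h ∈ alternatingGroup (Fin n), fx a b h = c

theorem mem_alt {h : Perm (Fin n)} : h ∈ alternatingGroup (Fin n) ↔ Perm.sign h = 1 :=
  Perm.mem_alternatingGroup

/-- A permutation with prescribed values. -/
theorem exists_extend {k : ℕ} (s t : Fin k → Fin n) (hs : Function.Injective s)
    (ht : Function.Injective t) : ∃ h : Perm (Fin n), ∀ i, h (s i) = t i := by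
  classical
  let e : {x // x ∈ Set.range s} ≃ {x // x ∈ Set.range t} :=
    ((Equiv.ofInjective s hs).symm).trans (Equiv.ofInjective t ht)
  refine ⟨e.extendSubtype, fun i => ?_⟩
  rw [Equiv.extendSubtype_apply_of_mem e (s i) ⟨i, rfl⟩]
  simp [e, Equiv.ofInjective_symm_apply]

/-- An even permutation with prescribed values on at most `n - 2` points. -/
theorem exists_extend_even {k : ℕ} (hk : k + 2 ≤ n) (s t : Fin k → Fin n) (hs : Function.Injective s)
    (ht : Function.Injective t) :
    ∃ h : Perm (Fin n), h ∈ alternatingGroup (Fin n) ∧ ∀ i, h (s i) = t i := by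
  classical
  obtain ⟨h, hh⟩ := exists_extend s t hs ht
  rcases Int.units_eq_one_or (Perm.sign h) with h1 | h1
  · exact ⟨h, mem_alt.2 h1, hh⟩
  · have hc : 1 < #((univ.image t)ᶜ) := by
      rw [card_compl, card_image_of_injective _ ht, card_univ, Fintype.card_fin, Fintype.card_fin]
      omega
    obtain ⟨x, hx, y, hy, hxy⟩ := one_lt_card.1 hc
    refine ⟨Equiv.swap x y * h, mem_alt.2 ?_, fun i => ?_⟩
    · rw [Perm.sign_mul, Perm.sign_swap hxy, h1]; decide
    · rw [Perm.mul_apply, hh, Equiv.swap_apply_of_ne_of_ne]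
      · intro e; exact mem_compl.1 hx (mem_image.2 ⟨i, mem_univ _, e⟩)
      · intro e; exact mem_compl.1 hy (mem_image.2 ⟨i, mem_univ _, e⟩)

theorem exists_map_pair (hn : 4 ≤ n) {x y x' y' : Fin n} (hxy : x ≠ y) (hxy' : x' ≠ y') :
    ∃ h : Perm (Fin n), h ∈ alternatingGroup (Fin n) ∧ h x = x' ∧ h y = y' := by
  obtain ⟨h, hh, hv⟩ := exists_extend_even (by omega) ![x, y] ![x', y']
    (by intro i j; fin_cases i <;> fin_cases j <;> simp [hxy, hxy.symm])
    (by intro i j; fin_cases i <;> fin_cases j <;> simp [hxy', hxy'.symm])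
  exact ⟨h, hh, hv 0, hv 1⟩

/-- The first moment of the fixed point count. -/
theorem moment (hn : 4 ≤ n) {a b : Perm (Fin n)} {c : ℕ} (hc : Const a b c) :
    n * (n - 1) * c = nfix a * nfix b * (n - 1) + (n - nfix a) * (n - nfix b) := by
  classical
  set A : Finset (Perm (Fin n)) := {h | Perm.sign h = 1} with hA
  let N : Fin n → Fin n → ℕ := fun x y => #{h ∈ A | b (h⁻¹ x) = h⁻¹ y}
  have hinv : ∀ k : Perm (Fin n), k ∈ alternatingGroup (Fin n) → ∀ x y, N (k x) (k y) = N x y := by
    intro k hk x y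
    refine card_bij (fun h _ => k⁻¹ * h) (fun h hh => ?_) (fun h _ h' _ e => mul_left_cancel e)
      (fun h hh => ⟨k * h, ?_, by group⟩)
    · simp only [hA, mem_filter, mem_univ, true_and] at hh ⊢
      refine ⟨by rw [Perm.sign_mul, Perm.sign_inv, mem_alt.1 hk, hh.1, mul_one], ?_⟩
      simpa [mul_inv_rev] using hh.2
    · simp only [hA, mem_filter, mem_univ, true_and] at hh ⊢
      exact ⟨by rw [Perm.sign_mul, mem_alt.1 hk, hh.1, mul_one], by simpa [mul_inv_rev] using hh.2⟩
  have hne : ∀ x : Fin n, ∃ y, y ≠ x := fun x => by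
    haveI : Nontrivial (Fin n) := Fin.nontrivial_iff_two_le.2 (by omega)
    exact exists_ne x
  have hN0 : ∀ x x', N x x = N x' x' := by
    intro x x'
    obtain ⟨y, hy⟩ := hne x
    obtain ⟨y', hy'⟩ := hne x'
    obtain ⟨k, hk, h1, -⟩ := exists_map_pair hn hy.symm hy'.symm
    rw [← h1]; exact (hinv k hk x x).symm
  have hN1 : ∀ x y x' y', x ≠ y → x' ≠ y' → N x y = N x' y' := by
    intro x y x' y' h h'
    obtain ⟨k, hk, h1, h2⟩ := exists_map_pair hn h h'
    rw [← h1, ← h2]; exact (hinv k hk x y).symm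
  obtain ⟨x₀, y₀, hx₀⟩ : ∃ x y : Fin n, x ≠ y :=
    ⟨⟨0, by omega⟩, ⟨1, by omega⟩, by simp [Fin.ext_iff]⟩
  set N₀ := N x₀ x₀
  set N₁ := N x₀ y₀
  have e0 : n * N₀ = nfix b * #A := by
    have h : ∑ x : Fin n, N x x = ∑ h ∈ A, nfix b := by
      simp only [N, card_filter]
      rw [sum_comm]
      refine sum_congr rfl fun h _ => ?_
      rw [nfix, card_filter]
      exact Equiv.sum_comp h⁻¹ (fun u => if b u = u then 1 else 0)
    rw [sum_congr rfl (fun x _ => hN0 x x₀), sum_const, sum_const, card_univ, Fintype.card_fin,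
      smul_eq_mul, smul_eq_mul] at h
    rw [h, mul_comm]
  have e1 : N₀ + (n - 1) * N₁ = #A := by
    have h : ∑ y : Fin n, N x₀ y = ∑ h ∈ A, 1 := by
      simp only [N, card_filter]
      rw [sum_comm]
      refine sum_congr rfl fun h _ => ?_
      rw [← card_filter]
      refine card_eq_one.2 ⟨h (b (h⁻¹ x₀)), ?_⟩
      ext y
      simp only [mem_filter, mem_univ, true_and, mem_singleton]
      constructor
      · intro e; rw [e]; simp
      · rintro rfl; simp
    rw [← add_sum_erase _ _ (mem_univ x₀),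
      sum_congr rfl (fun y hy => hN1 x₀ y x₀ y₀ (Ne.symm (ne_of_mem_erase hy)) hx₀), sum_const,
      card_erase_of_mem (mem_univ _), card_univ, Fintype.card_fin, smul_eq_mul, sum_const,
      smul_eq_mul, mul_one] at h
    exact h
  have e2 : c * #A = nfix a * N₀ + (n - nfix a) * N₁ := by
    have h : ∑ h ∈ A, fx a b h = ∑ x : Fin n, N x (a⁻¹ x) := by
      simp only [N, fx, card_filter]
      rw [sum_comm]
      refine sum_congr rfl fun x _ => sum_congr rfl fun h _ => ?_
      refine if_congr ?_ rfl rfl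
      constructor
      · intro e
        apply h.injective
        apply a.injective
        rw [show a (h (b (h⁻¹ x))) = x from e]
        simp
      · intro e
        rw [e]
        simp
    rw [sum_congr rfl (fun h hh => hc h (mem_alt.2 (by simpa [hA] using hh))), sum_const,
      smul_eq_mul, ← sum_filter_add_sum_filter_not univ (fun x => a x = x),
      sum_congr rfl (fun x hx => show N x (a⁻¹ x) = N₀ from by
        have h := (mem_filter.1 hx).2
        rw [Perm.inv_eq_iff_eq.2 h.symm]; exact hN0 x x₀),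
      sum_congr rfl (fun x hx => show N x (a⁻¹ x) = N₁ from hN1 _ _ _ _ (fun e =>
        (show ¬ a x = x from (mem_filter.1 hx).2) (Perm.eq_inv_iff_eq.1 e)) hx₀), sum_const, sum_const, smul_eq_mul,
      smul_eq_mul, mul_comm] at h
    rw [h, nfix]
    have := card_filter_add_card_filter_not (s := (univ : Finset (Fin n))) (fun x => a x = x)
    rw [card_univ, Fintype.card_fin] at this
    congr 2
    omega
  have hApos : 0 < #A := card_pos.2 ⟨1, by simp [hA]⟩
  have hfb : nfix b ≤ n := (card_le_univ _).trans (le_of_eq (Fintype.card_fin n))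
  refine Nat.eq_of_mul_eq_mul_right hApos ?_
  obtain ⟨k, hk⟩ : ∃ k, n - nfix b = k := ⟨_, rfl⟩
  obtain ⟨m, hm⟩ : ∃ m, n - 1 = m := ⟨_, rfl⟩
  have hn' : nfix b + k = n := by omega
  rw [hm] at e1 ⊢
  rw [hk]
  have e1' : n * (m * N₁) = k * #A := by
    have h : n * N₀ + n * (m * N₁) = n * #A := by rw [← mul_add, e1]
    rw [e0] at h
    have h2 : n * #A = nfix b * #A + k * #A := by rw [← add_mul, hn']
    omega
  calc n * m * c * #A = n * m * (c * #A) := by ring
    _ = (n * N₀) * (nfix a * m) + (n * (m * N₁)) * (n - nfix a) := by rw [e2]; ring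
    _ = _ := by rw [e0, e1']; ring

end CfsgLib.FixCount
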