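import Cfsg.Agent.Lib.FixCount.Basic
import Mathlib.Data.Fin.Tuple.Basic

/-!
The fixed point count of `a * (h * b * h⁻¹)` takes two values on even `h`.
-/

set_option autoImplicit false

namespace CfsgLib.FixCount

open Equiv Finset

variable {n : ℕ} {a b : Perm (Fin n)} {c : ℕ}

theorem fx_swap (a b h : Perm (Fin n)) : fx b a h⁻¹ = fx a b h := by
  refine card_equiv (h.trans a) fun x => ?_
  simp only [mem_filter, mem_univ, true_and, inv_inv, Equiv.trans_apply]
  constructor
  · intro e; rw [e]
  · intro e; exact h.injective (a.injective e)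

theorem inj_three {x y z : Fin n} (h1 : x ≠ y) (h2 : x ≠ z) (h3 : y ≠ z) :
    Function.Injective ![x, y, z] := by
  intro i j
  fin_cases i <;> fin_cases j <;> simp [h1, h2, h3, h1.symm, h2.symm, h3.symm]

theorem inj_two {x y : Fin n} (h1 : x ≠ y) : Function.Injective ![x, y] := by
  intro i j
  fin_cases i <;> fin_cases j <;> simp [h1, h1.symm]

theorem Const.swap (hc : Const a b c) : Const b a c := fun h hh => by
  rw [← inv_inv h, fx_swap]
  exact hc _ (inv_mem hh)

theorem Const.all (hc : Const a b c)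
    (hz : ∃ z : Perm (Fin n), Perm.sign z = -1 ∧ (Commute z a ∨ Commute z b)) (h : Perm (Fin n)) :
    fx a b h = c := by
  have main : ∀ (a b : Perm (Fin n)), Const a b c → ∀ z : Perm (Fin n), Perm.sign z = -1 →
      Commute z b → ∀ h, fx a b h = c := by
    intro a b hc z hz hzb h
    rcases Int.units_eq_one_or (Perm.sign h) with h1 | h1
    · exact hc h (mem_alt.2 h1)
    · rw [← hc (h * z) (mem_alt.2 (by rw [Perm.sign_mul, h1, hz]; decide))]
      refine congrArg Finset.card (filter_congr fun x _ => ?_)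
      have e : h * z * b * (h * z)⁻¹ = h * b * h⁻¹ := by
        rw [mul_assoc h z b, hzb.eq]; group
      have e' : (h * z) (b ((h * z)⁻¹ x)) = h (b (h⁻¹ x)) := by
        simpa only [Perm.mul_apply] using congrArg (fun q : Perm (Fin n) => q x) e
      rw [e']
  obtain ⟨z, hzs, hza | hzb⟩ := hz
  · rw [← fx_swap]
    exact main b a hc.swap z hzs hza _
  · exact main a b hc z hzs hzb h

theorem card_le_fx {h : Perm (Fin n)} {k : ℕ} {s : Fin k → Fin n} (hs : Function.Injective s)
    (hfix : ∀ i, a (h (b (h⁻¹ (s i)))) = s i) : k ≤ fx a b h := by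
  have := card_le_card (s := univ.image s) (t := {x | a (h (b (h⁻¹ x))) = x}) (by
    intro x hx
    obtain ⟨i, -, rfl⟩ := mem_image.1 hx
    simpa using hfix i)
  rwa [card_image_of_injective _ hs, card_univ, Fintype.card_fin] at this

theorem fix_of_map {h : Perm (Fin n)} {u x : Fin n} (h1 : h u = x) (h2 : h (b u) = a⁻¹ x) :
    a (h (b (h⁻¹ x))) = x := by
  rw [show h⁻¹ x = u from Perm.inv_eq_iff_eq.2 h1.symm, h2]; simp

theorem nfix_add_two_le (ha : a ≠ 1) : nfix a + 2 ≤ n := by
  have h : a.support = ({x | a x = x} : Finset (Fin n))ᶜ := by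
    ext x; simp [Perm.mem_support]
  have h2 := Perm.one_lt_card_support_of_ne_one ha
  rw [h, card_compl, Fintype.card_fin] at h2
  rw [nfix]
  omega

theorem exists_moved (ha : a ≠ 1) : ∃ x, a x ≠ x := by
  by_contra hcon
  push Not at hcon
  exact ha (Perm.ext hcon)

/-- A support with at least four points contains two disjoint edges. -/
theorem exists_two_edges (ha : nfix a + 4 ≤ n) :
    ∃ x z, Function.Injective ![x, a x, z, a z] := by
  have hc : 4 ≤ #({x | a x = x} : Finset (Fin n))ᶜ := by
    rw [card_compl, Fintype.card_fin]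
    rw [nfix] at ha
    omega
  obtain ⟨x, hx⟩ := card_pos.1 (lt_of_lt_of_le four_pos hc)
  have hc2 : 0 < #((({x | a x = x} : Finset (Fin n))ᶜ) \ {x, a x, a⁻¹ x}) := by
    have h1 := le_card_sdiff ({x, a x, a⁻¹ x} : Finset (Fin n)) (({x | a x = x} : Finset (Fin n))ᶜ)
    have h2 : #({x, a x, a⁻¹ x} : Finset (Fin n)) ≤ 3 := card_le_three
    omega
  obtain ⟨z, hz⟩ := card_pos.1 hc2
  simp only [mem_sdiff, mem_compl, mem_filter, mem_univ, true_and, mem_insert, mem_singleton,
    not_or] at hx hz
  obtain ⟨hz0, hz1, hz2, hz3⟩ := hz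
  have h12 : x ≠ a x := fun e => hx e.symm
  have h14 : x ≠ a z := fun e => hz3 (Perm.eq_inv_iff_eq.2 e.symm)
  have h24 : a x ≠ a z := fun e => hz1 (a.injective e).symm
  have h34 : z ≠ a z := fun e => hz0 e.symm
  refine ⟨x, z, ?_⟩
  intro i j
  fin_cases i <;> fin_cases j <;>
    simp [h12, h12.symm, h14, h14.symm, h24, h34, h34.symm, hz1, Ne.symm hz1, hz2, Ne.symm hz2,
      Ne.symm h24]

theorem not_const_of_le (hn : 5 ≤ n) (ha : a ≠ 1) (hb : b ≠ 1) (hle : nfix b ≤ nfix a) :
    ¬ Const a b c := by
  intro hc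
  have hm := moment (by omega) hc
  have hfa := nfix_add_two_le ha
  have hfb := nfix_add_two_le hb
  have ha' : a⁻¹ ≠ 1 := inv_ne_one.2 ha
  obtain ⟨x, hx⟩ := exists_moved ha'
  obtain ⟨u, hu⟩ := exists_moved hb
  obtain ⟨n', rfl⟩ : ∃ n', n = n' + 1 := ⟨n - 1, by omega⟩
  simp only [Nat.add_sub_cancel] at hm
  rcases Nat.eq_zero_or_pos (nfix b) with hg | hg
  · rw [hg] at hm
    simp only [mul_zero, zero_mul, zero_add, Nat.sub_zero] at hm
    rcases Nat.eq_zero_or_pos (nfix a) with hf | hf
    · rw [hf, Nat.sub_zero] at hm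
      have h1 : n' * c = n' + 1 := by
        refine Nat.eq_of_mul_eq_mul_left (Nat.succ_pos n') ?_
        linarith
      rcases Nat.lt_or_ge c 2 with h2 | h2
      · interval_cases c <;> omega
      · have := Nat.mul_le_mul_left n' h2
        omega
    · -- one common edge
      obtain ⟨h, hh, h1, h2⟩ := exists_map_pair (by omega) hu.symm hx.symm
      have hc1 : 1 ≤ c := by
        rw [← hc h hh]
        exact card_le_fx (s := ![x]) (Function.injective_of_subsingleton _)
          (fun i => by fin_cases i; exact fix_of_map h1 h2)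
      obtain ⟨m, hm'⟩ : ∃ m, n' + 1 - nfix a = m := ⟨_, rfl⟩
      rw [hm'] at hm
      have h3 : n' * c = m := by
        refine Nat.eq_of_mul_eq_mul_left (Nat.succ_pos n') ?_
        linarith
      have h4 : n' * c ≤ n' * 1 := by rw [mul_one]; omega
      have h5 : c = 1 := le_antisymm (Nat.le_of_mul_le_mul_left h4 (by omega)) hc1
      subst h5
      suffices h : ∃ h : Perm (Fin (n' + 1)), fx a b h = 1 ∧ 2 ≤ fx a b h by
        obtain ⟨h, e1, e2⟩ := h
        omega
      have hfa' : nfix a⁻¹ = nfix a := by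
        refine congrArg Finset.card (filter_congr fun y _ => ?_)
        rw [Perm.inv_eq_iff_eq, eq_comm]
      have h2edges : ∀ (hall : ∀ s t : Fin 4 → Fin (n' + 1), Function.Injective s →
          Function.Injective t → ∃ h : Perm (Fin (n' + 1)), fx a b h = 1 ∧ ∀ i, h (s i) = t i),
          ∃ h : Perm (Fin (n' + 1)), fx a b h = 1 ∧ 2 ≤ fx a b h := by
        intro hall
        obtain ⟨x₁, z₁, hi⟩ := exists_two_edges (a := a⁻¹) (by omega)
        obtain ⟨u₁, v₁, hi'⟩ := exists_two_edges (a := b) (by omega)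
        obtain ⟨h, he, hv⟩ := hall _ _ hi' hi
        refine ⟨h, he, card_le_fx (s := ![x₁, z₁]) ?_ ?_⟩
        · intro i j
          have hne : x₁ ≠ z₁ := fun e => absurd (hi (a₁ := 0) (a₂ := 2) (by simpa using e)) (by decide)
          fin_cases i <;> fin_cases j <;> simp [hne, hne.symm]
        · intro i
          fin_cases i
          · exact fix_of_map (hv 0) (hv 1)
          · exact fix_of_map (hv 2) (hv 3)
      rcases Nat.lt_or_ge n' 5 with hn5 | hn5
      · -- five points
        by_cases hch : ∃ y, a⁻¹ y ≠ y ∧ a⁻¹ (a⁻¹ y) ≠ y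
        · obtain ⟨y, hy1, hy2⟩ := hch
          obtain ⟨v, hv2⟩ : ∃ v, b (b v) ≠ v := by
            by_contra hcon
            push Not at hcon
            have h2 : b ^ 2 = 1 := Perm.ext fun v => by simp [pow_two, hcon v]
            have h3 := Perm.two_dvd_card_support h2
            have h4 : #b.support = n' + 1 := by
              rw [show b.support = ({x | b x = x} : Finset (Fin (n' + 1)))ᶜ by ext q; simp,
                card_compl, Fintype.card_fin]
              rw [nfix] at hg
              omega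
            omega
          have hv1 : b v ≠ v := fun e => hv2 (by rw [e, e])
          have hv3 : b (b v) ≠ b v := fun e => hv1 (b.injective e)
          have hy3 : a⁻¹ (a⁻¹ y) ≠ a⁻¹ y := fun e => hy1 (a⁻¹.injective e)
          obtain ⟨h, hh, hv⟩ := exists_extend_even (n := n' + 1) (k := 3) (by omega) ![v, b v, b (b v)]
            ![y, a⁻¹ y, a⁻¹ (a⁻¹ y)]
            (inj_three hv1.symm hv2.symm hv3.symm) (inj_three hy1.symm hy2.symm hy3.symm)
          refine ⟨h, hc h hh, card_le_fx (s := ![y, a⁻¹ y]) (inj_two hy1.symm) ?_⟩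
          · intro i
            fin_cases i
            · exact fix_of_map (hv 0) (hv 1)
            · exact fix_of_map (hv 1) (hv 2)
        · push Not at hch
          have hsq : ∀ y, a (a y) = y := fun y => by
            by_cases hy : a⁻¹ y = y
            · have := (Perm.inv_eq_iff_eq.1 hy).symm
              rw [this, this]
            · have := Perm.inv_eq_iff_eq.1 (hch y hy)
              rw [← this]
              simp
          obtain ⟨y, hy⟩ := exists_moved ha
          have hall := hc.all ⟨Equiv.swap y (a y), Perm.sign_swap (Ne.symm hy), Or.inl (by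
            show Equiv.swap y (a y) * a = a * Equiv.swap y (a y)
            rw [Equiv.mul_swap_eq_swap_mul, hsq, Equiv.swap_comm])⟩
          exact h2edges fun s t hs ht => by
            obtain ⟨h, hh⟩ := exists_extend s t hs ht
            exact ⟨h, hall h, hh⟩
      · exact h2edges fun s t hs ht => by
          obtain ⟨h, hh, hv⟩ := exists_extend_even (by omega) s t hs ht
          exact ⟨h, hc h hh, hv⟩
  · -- common fixed points and one common edge
    obtain ⟨g, hgdef⟩ : ∃ g, nfix b = g := ⟨_, rfl⟩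
    rw [hgdef] at hm hle hfb hg
    obtain ⟨T, hT, hTc⟩ := exists_subset_card_eq (s := ({x | a x = x} : Finset (Fin (n' + 1)))) hle
    set sB := ({x | b x = x} : Finset (Fin (n' + 1))).orderEmbOfFin hgdef with hsB
    set tA := T.orderEmbOfFin hTc with htA
    have hsBm : ∀ i, b (sB i) = sB i := fun i => (mem_filter.1 (orderEmbOfFin_mem _ hgdef i)).2
    have htAm : ∀ i, a (tA i) = tA i := fun i => (mem_filter.1 (hT (orderEmbOfFin_mem _ hTc i))).2
    have htAm' : ∀ i, a⁻¹ (tA i) = tA i := fun i => Perm.inv_eq_iff_eq.2 (htAm i).symm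
    have hu' : ∀ i, sB i ≠ u ∧ sB i ≠ b u := fun i =>
      ⟨fun e => hu (e ▸ hsBm i), fun e => hu (b.injective (by rw [← e, hsBm i]))⟩
    have hx' : ∀ i, tA i ≠ x ∧ tA i ≠ a⁻¹ x := fun i =>
      ⟨fun e => hx (e ▸ htAm' i), fun e => hx (a⁻¹.injective (by rw [← e, htAm' i]))⟩
    set s : Fin (g + 1 + 1) → Fin (n' + 1) := Fin.cons u (Fin.cons (b u) sB)
    set t : Fin (g + 1 + 1) → Fin (n' + 1) := Fin.cons x (Fin.cons (a⁻¹ x) tA)
    have hs : Function.Injective s := by
      refine Fin.cons_injective_iff.2 ⟨?_, Fin.cons_injective_iff.2 ⟨?_, sB.injective⟩⟩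
      · rintro ⟨i, hi⟩
        refine Fin.cases ?_ ?_ i hi
        · simpa using fun e => hu e
        · intro j hj; exact (hu' j).1 (by simpa using hj)
      · rintro ⟨i, hi⟩; exact (hu' i).2 hi
    have ht : Function.Injective t := by
      refine Fin.cons_injective_iff.2 ⟨?_, Fin.cons_injective_iff.2 ⟨?_, tA.injective⟩⟩
      · rintro ⟨i, hi⟩
        refine Fin.cases ?_ ?_ i hi
        · simpa using fun e => hx e
        · intro j hj; exact (hx' j).1 (by simpa using hj)
      · rintro ⟨i, hi⟩; exact (hx' i).2 hi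
    obtain ⟨h, he, hv⟩ : ∃ h : Perm (Fin (n' + 1)), fx a b h = c ∧ ∀ i, h (s i) = t i := by
      rcases Nat.lt_or_ge g 2 with h2 | h2
      · obtain ⟨h, hh, hv⟩ := exists_extend_even (by omega) s t hs ht
        exact ⟨h, hc h hh, hv⟩
      · obtain ⟨i, j, hij⟩ : ∃ i j : Fin g, i ≠ j :=
          ⟨⟨0, by omega⟩, ⟨1, by omega⟩, by simp [Fin.ext_iff]⟩
        have hne : sB i ≠ sB j := fun e => hij (sB.injective e)
        have hall := hc.all ⟨Equiv.swap (sB i) (sB j), Perm.sign_swap hne, Or.inr (by
          show Equiv.swap (sB i) (sB j) * b = b * Equiv.swap (sB i) (sB j)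
          rw [Equiv.mul_swap_eq_swap_mul, hsBm, hsBm])⟩
        obtain ⟨h, hh⟩ := exists_extend s t hs ht
        exact ⟨h, hall h, hh⟩
    have hcg : g + 1 ≤ c := by
      rw [← he]
      refine card_le_fx (s := Fin.cons x tA) ?_ ?_
      · refine Fin.cons_injective_iff.2 ⟨?_, tA.injective⟩
        rintro ⟨i, hi⟩; exact (hx' i).1 hi
      · intro i
        refine Fin.cases ?_ ?_ i
        · have h0 := hv 0
          have h1 := hv (Fin.succ 0)
          simp only [s, t, Fin.cons_zero, Fin.cons_succ] at h0 h1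
          simpa using fix_of_map (a := a) h0 h1
        · intro j
          have h2 := hv j.succ.succ
          simp only [s, t, Fin.cons_succ] at h2
          rw [Fin.cons_succ]
          exact fix_of_map h2 (by rw [hsBm, h2, htAm'])
    have k1 : (n' + 1) * n' * (g + 1) ≤ (n' + 1) * n' * c := Nat.mul_le_mul_left _ hcg
    have k2 : (n' + 1 - nfix a) * (n' + 1 - g) ≤ (n' + 1) * n' :=
      Nat.mul_le_mul (Nat.sub_le _ _) (by omega)
    have k3 : nfix a * g * n' + 1 ≤ (n' + 1) * n' * g := by
      have h1 : (nfix a + 1) * (g * n') ≤ (n' + 1) * (g * n') := Nat.mul_le_mul_right _ (by omega)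
      have h2 : 1 ≤ g * n' := Nat.one_le_iff_ne_zero.2 (Nat.mul_ne_zero (by omega) (by omega))
      nlinarith
    nlinarith

/-- There are two even conjugations giving different fixed point counts. -/
theorem not_const (hn : 5 ≤ n) (ha : a ≠ 1) (hb : b ≠ 1) : ¬ Const a b c := by
  rcases le_total (nfix b) (nfix a) with h | h
  · exact not_const_of_le hn ha hb h
  · exact fun hc => not_const_of_le hn hb ha h hc.swap

end CfsgLib.FixCount
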